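import Mathlib

/-!
# The centre of a `p`-group of permutations (helper795, S4578 task A)

`center_le`: `p` odd, `D` a `p`-group of permutations, every element of `D` moves at most `p w` points, `|Z(D)| = p ^ c`.
Then `c ≤ w`, and `D` is commutative if `c = w`.
-/

set_option autoImplicit false

namespace Cfsg.Agent.H795.Spin

open Finset Equiv

section num

theorem mul_le_pow' {p : ℕ} (hp : 3 ≤ p) (j : ℕ) : p * j ≤ p ^ j := by
  have h : ∀ j : ℕ, j + 1 ≤ p ^ j := by
    intro j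
    induction j with
    | zero => simp
    | succ j ih =>
      rw [pow_succ]
      nlinarith
  rcases Nat.eq_zero_or_pos j with rfl | hj
  · simp
  · obtain ⟨i, rfl⟩ : ∃ i, j = i + 1 := ⟨j - 1, by omega⟩
    rw [pow_succ, mul_comm (p ^ i)]
    exact Nat.mul_le_mul_left _ (h i)

theorem eq_one_of_mul_eq {p : ℕ} (hp : 3 ≤ p) {j : ℕ} (h : p * j = p ^ j) : j = 1 := by
  have h1 : ∀ j : ℕ, 1 ≤ j → j + 1 < p ^ j := by
    intro j hj
    induction j, hj using Nat.le_induction with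
    | base => rw [pow_one]; omega
    | succ j hj ih =>
      rw [pow_succ]
      nlinarith
  rcases Nat.eq_zero_or_pos j with rfl | hj
  · simp at h
  · obtain ⟨i, rfl⟩ : ∃ i, j = i + 1 := ⟨j - 1, by omega⟩
    rw [pow_succ, mul_comm (p ^ i)] at h
    have h2 := Nat.eq_of_mul_eq_mul_left (by omega : 0 < p) h
    rcases Nat.eq_zero_or_pos i with rfl | hi
    · rfl
    · have := h1 i hi
      omega

end num

variable {α : Type*} [Fintype α] [DecidableEq α]

/-- a minimal base -/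
theorem exists_base (Z : Subgroup (Perm α)) : ∃ (R : Finset α) (e : α → Perm α),
    (∀ r ∈ R, e r ∈ Z ∧ (e r) r ≠ r ∧ ∀ r' ∈ R, r' ≠ r → (e r) r' = r') ∧
      ∀ z ∈ Z, (∀ r ∈ R, z r = r) → z = 1 := by
  classical
  let P : Finset α → Prop := fun R => ∀ z ∈ Z, (∀ r ∈ R, z r = r) → z = 1
  have h0 : ∃ n, ∃ R : Finset α, #R = n ∧ P R := ⟨_, univ, rfl, fun z _ h => Equiv.ext fun r => h r (mem_univ r)⟩
  obtain ⟨R, hR, hPR⟩ := Nat.find_spec h0
  have hmin : ∀ r ∈ R, ¬ P (R.erase r) := by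
    intro r hr h
    have h1 := Nat.find_min' h0 ⟨R.erase r, rfl, h⟩
    have h2 := card_erase_lt_of_mem hr
    omega
  have h2 : ∀ r, ∃ z : Perm α, r ∈ R → z ∈ Z ∧ z r ≠ r ∧ ∀ r' ∈ R, r' ≠ r → z r' = r' := by
    intro r
    by_cases hr : r ∈ R
    · have h3 := hmin r hr
      simp only [P] at h3
      push Not at h3
      obtain ⟨z, hz, hz1, hz2⟩ := h3
      refine ⟨z, fun _ => ⟨hz, fun h4 => hz2 (hPR z hz fun r' hr' => ?_), fun r' hr' hne =>
        hz1 r' (mem_erase.2 ⟨hne, hr'⟩)⟩⟩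
      by_cases h5 : r' = r
      · rw [h5, h4]
      · exact hz1 r' (mem_erase.2 ⟨h5, hr'⟩)
    · exact ⟨1, fun h => absurd h hr⟩
  choose e he using h2
  exact ⟨R, e, fun r hr => he r hr, hPR⟩

section ab

variable {Z : Subgroup (Perm α)} (hab : ∀ a ∈ Z, ∀ b ∈ Z, a * b = b * a)

include hab

omit [Fintype α] [DecidableEq α] in
theorem fix_iff {z g : Perm α} (hz : z ∈ Z) (hg : g ∈ Z) (x : α) : z (g x) = g x ↔ z x = x := by
  have h1 : z (g x) = g (z x) := congrArg (fun f : Perm α => f x) (hab z hz g hg)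
  rw [h1]
  exact g.apply_eq_iff_eq

variable {R : Finset α} {e : α → Perm α}
  (he : ∀ r ∈ R, e r ∈ Z ∧ (e r) r ≠ r ∧ ∀ r' ∈ R, r' ≠ r → (e r) r' = r')

include he

omit [Fintype α] in
/-- elements with given values -/
theorem exists_prod (i : α → ℤ) : ∃ y ∈ Z, ∀ r ∈ R, y r = ((e r) ^ (i r)) r := by
  classical
  have key : ∀ S : Finset α, S ⊆ R → ∃ y ∈ Z, ∀ r ∈ R, y r = if r ∈ S then ((e r) ^ (i r)) r else r := by
    intro S
    induction S using Finset.induction_on with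
    | empty => intro _; exact ⟨1, Z.one_mem, fun r _ => by simp⟩
    | insert a S haS ih =>
      intro hS
      obtain ⟨y, hy, hyr⟩ := ih (fun x hx => hS (mem_insert_of_mem hx))
      have haR : a ∈ R := hS (mem_insert_self a S)
      have hpow : ∀ r ∈ R, r ≠ a → ((e a) ^ (i a)) r = r := fun r hr hra =>
        Perm.zpow_apply_eq_self_of_apply_eq_self ((he a haR).2.2 r hr hra) _
      refine ⟨(e a) ^ (i a) * y, Z.mul_mem (Z.zpow_mem (he a haR).1 _) hy, fun r hr => ?_⟩
      rw [Perm.mul_apply, hyr r hr]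
      by_cases hra : r = a
      · subst hra
        rw [if_neg haS, if_pos (mem_insert_self _ _)]
      · by_cases hrS : r ∈ S
        · rw [if_pos hrS, if_pos (mem_insert_of_mem hrS)]
          have h1 : ((e a) ^ (i a)) (((e r) ^ (i r)) r) = ((e r) ^ (i r)) (((e a) ^ (i a)) r) :=
            congrArg (fun f : Perm α => f r)
              (hab _ (Z.zpow_mem (he a haR).1 _) _ (Z.zpow_mem (he r hr).1 _))
          rw [h1, hpow r hr hra]
        · rw [if_neg hrS, if_neg (fun h => (mem_insert.1 h).elim hra hrS), hpow r hr hra]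
  obtain ⟨y, hy, hyr⟩ := key R (fun _ h => h)
  exact ⟨y, hy, fun r hr => by rw [hyr r hr, if_pos hr]⟩

end ab

open Classical in
/-- the orbit as a finset -/
noncomputable def orb (Z : Subgroup (Perm α)) (r : α) : Finset α := univ.filter fun y => ∃ g ∈ Z, g r = y

theorem mem_orb {Z : Subgroup (Perm α)} {r y : α} : y ∈ orb Z r ↔ ∃ g ∈ Z, g r = y := by
  classical
  unfold orb
  rw [mem_filter]
  simp

theorem orb_eq (Z : Subgroup (Perm α)) (r : α) : (orb Z r : Set α) = MulAction.orbit Z r := by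
  ext y
  rw [mem_coe, mem_orb, MulAction.mem_orbit_iff]
  constructor
  · rintro ⟨g, hg, rfl⟩
    exact ⟨⟨g, hg⟩, rfl⟩
  · rintro ⟨g, rfl⟩
    exact ⟨g, g.2, rfl⟩

theorem card_orb {Z : Subgroup (Perm α)} {p : ℕ} [Fact p.Prime] (hZ : IsPGroup p Z) (r : α) :
    ∃ j : ℕ, #(orb Z r) = p ^ j := by
  obtain ⟨j, hj⟩ := hZ.card_orbit r
  refine ⟨j, ?_⟩
  rw [← hj, ← orb_eq, Nat.card_coe_set_eq, Set.ncard_coe_finset]

/-- **The centre of a `p`-group of permutations.** -/
theorem center_le {p : ℕ} [Fact p.Prime] (hp : p ≠ 2)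
    {D : Subgroup (Equiv.Perm α)} (hD : IsPGroup p D) {w : ℕ}
    (h : ∀ z ∈ D, #z.support ≤ p * w) {c : ℕ} (hc : Nat.card (Subgroup.center D) = p ^ c) :
    c ≤ w ∧ (c = w → IsMulCommutative D) := by
  classical
  have hpp : p.Prime := Fact.out
  have hp3 : 3 ≤ p := by
    have := hpp.two_le
    omega
  -- the centre as a group of permutations
  obtain ⟨Z, hZdef⟩ : ∃ Z : Subgroup (Perm α), Z = (Subgroup.center D).map D.subtype := ⟨_, rfl⟩
  have hmem : ∀ z, z ∈ Z ↔ z ∈ D ∧ ∀ d ∈ D, d * z = z * d := by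
    intro z
    rw [hZdef, Subgroup.mem_map]
    constructor
    · rintro ⟨y, hy, rfl⟩
      refine ⟨y.2, fun d hd => ?_⟩
      exact congrArg Subtype.val (Subgroup.mem_center_iff.1 hy ⟨d, hd⟩)
    · rintro ⟨hz, hzc⟩
      exact ⟨⟨z, hz⟩, Subgroup.mem_center_iff.2 fun d => Subtype.ext (hzc d d.2), rfl⟩
  have hZD : Z ≤ D := fun z hz => ((hmem z).1 hz).1
  have hab : ∀ a ∈ Z, ∀ b ∈ Z, a * b = b * a := fun a ha b hb => ((hmem b).1 hb).2 a (hZD ha)
  have hZcard : Nat.card Z = p ^ c := by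
    rw [hZdef, ← hc]
    exact Subgroup.card_map_of_injective D.subtype_injective
  have hZp : IsPGroup p Z := hD.to_le hZD
  obtain ⟨R, e, he, hbase⟩ := exists_base Z
  choose j hj using fun r => card_orb hZp r
  -- the orbits of the base points are disjoint
  have hdisj : ∀ r ∈ R, ∀ r' ∈ R, r ≠ r' → Disjoint (orb Z r) (orb Z r') := by
    intro r hr r' hr' hne
    rw [disjoint_left]
    intro y hy hy'
    obtain ⟨g, hg, rfl⟩ := mem_orb.1 hy
    obtain ⟨g', hg', hgg⟩ := mem_orb.1 hy'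
    have h1 : (e r) (g' r') = g' r' := (fix_iff hab (he r hr).1 hg' r').2 ((he r hr).2.2 r' hr' hne.symm)
    rw [hgg] at h1
    exact (he r hr).2.1 ((fix_iff hab (he r hr).1 hg r).1 h1)
  obtain ⟨Om, hOm⟩ : ∃ Om : Finset α, Om = R.biUnion (orb Z) := ⟨_, rfl⟩
  have hOmc : #Om = ∑ r ∈ R, p ^ j r := by
    rw [hOm, card_biUnion hdisj]
    exact sum_congr rfl fun r _ => hj r
  -- the elements moving all base points
  have hsup : ∀ z ∈ Z, (∀ r ∈ R, z r ≠ r) → Om ⊆ z.support := by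
    intro z hz hzr x hx
    rw [hOm, mem_biUnion] at hx
    obtain ⟨r, hr, hx⟩ := hx
    obtain ⟨g, hg, rfl⟩ := mem_orb.1 hx
    rw [Perm.mem_support]
    intro h1
    exact hzr r hr ((fix_iff hab hz hg r).1 h1)
  obtain ⟨z, hz, hzr⟩ := exists_prod hab he (fun _ => 1)
  have hzr1 : ∀ r ∈ R, z r = (e r) r := fun r hr => by rw [hzr r hr, zpow_one]
  have hzm : ∀ r ∈ R, z r ≠ r := fun r hr => by rw [hzr1 r hr]; exact (he r hr).2.1
  have hOmle : #Om ≤ p * w := (card_le_card (hsup z hz hzm)).trans (h z (hZD hz))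
  -- the order of `Z`
  have hcle : c ≤ ∑ r ∈ R, j r := by
    have h1 : Nat.card Z ≤ ∏ r ∈ R, #(orb Z r) := by
      have h2 : Fintype.card Z ≤ Fintype.card (∀ r : R, orb Z (r : α)) := by
        refine Fintype.card_le_of_injective (fun y r => ⟨(y : Perm α) r, mem_orb.2 ⟨y, y.2, rfl⟩⟩) ?_
        intro y y' hyy
        have h3 : (y' : Perm α)⁻¹ * y = 1 := by
          refine hbase _ (Z.mul_mem (Z.inv_mem y'.2) y.2) fun r hr => ?_
          have h4 : (y : Perm α) r = (y' : Perm α) r := congrArg Subtype.val (congrFun hyy ⟨r, hr⟩)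
          rw [Perm.mul_apply, h4]
          exact Equiv.symm_apply_apply _ _
        exact Subtype.ext (inv_mul_eq_one.1 h3).symm
      rw [Fintype.card_pi] at h2
      rw [Nat.card_eq_fintype_card]
      refine h2.trans (le_of_eq ?_)
      rw [← prod_coe_sort R fun r => #(orb Z r)]
      exact prod_congr rfl fun r _ => Fintype.card_coe _
    rw [hZcard, prod_congr rfl fun r _ => hj r, prod_pow_eq_pow_sum] at h1
    exact (Nat.pow_le_pow_iff_right hpp.one_lt).1 h1
  have hterm : ∀ r ∈ R, p * j r ≤ p ^ j r := fun r _ => mul_le_pow' hp3 _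
  have hsum : p * ∑ r ∈ R, j r ≤ ∑ r ∈ R, p ^ j r := by
    rw [mul_sum]
    exact sum_le_sum hterm
  have hcw : c ≤ w := by
    have h1 : p * c ≤ p * w := (Nat.mul_le_mul_left p hcle).trans (hsum.trans (hOmc ▸ hOmle))
    exact Nat.le_of_mul_le_mul_left h1 hpp.pos
  refine ⟨hcw, fun hcw' => ?_⟩
  subst hcw'
  have hsum' : ∑ r ∈ R, p * j r = ∑ r ∈ R, p ^ j r := by
    refine le_antisymm (sum_le_sum hterm) ?_
    rw [← hOmc, ← mul_sum]
    exact hOmle.trans (Nat.mul_le_mul_left p hcle)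
  have hj1 : ∀ r ∈ R, j r = 1 := fun r hr => eq_one_of_mul_eq hp3 ((sum_eq_sum_iff_of_le hterm).1 hsum' r hr)
  have hOmc' : #Om = p * c := by
    refine le_antisymm hOmle ?_
    rw [hOmc]
    exact (Nat.mul_le_mul_left p hcle).trans hsum
  have hsup' : ∀ z ∈ Z, (∀ r ∈ R, z r ≠ r) → z.support = Om := by
    intro z hz hzr
    refine (eq_of_subset_of_card_le (hsup z hz hzr) ?_).symm
    rw [hOmc']
    exact h z (hZD hz)
  -- the elements `e r`
  have hodd : ∀ g ∈ Z, ∀ x, g (g x) = x → g x = x := by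
    intro g hg x hx
    obtain ⟨a, ha⟩ := hZp ⟨g, hg⟩
    have ha' : g ^ (p ^ a) = 1 := congrArg Subtype.val ha
    have hpo : Odd (p ^ a) := (hpp.odd_of_ne_two hp).pow
    obtain ⟨k, hk⟩ := hpo
    have h1 : ∀ k : ℕ, (g ^ (2 * k)) x = x := by
      intro k
      rw [pow_mul]
      exact Perm.pow_apply_eq_self_of_apply_eq_self (by rw [pow_two, Perm.mul_apply]; exact hx) k
    have h2 : (g ^ (2 * k + 1)) x = x := by rw [← hk, ha']; rfl
    rwa [pow_succ', Perm.mul_apply, h1] at h2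
  have hesup : ∀ r ∈ R, ∀ x, (e r) x ≠ x → x ∈ orb Z r := by
    intro r hr x hx
    have her := he r hr
    have h1 : (z * e r).support = Om := by
      refine hsup' _ (Z.mul_mem hz her.1) fun r' hr' => ?_
      rw [Perm.mul_apply]
      by_cases hrr : r' = r
      · subst hrr
        intro h2
        have h3 : (e r') ((e r') r') = r' := by
          have h4 : z ((e r') r') = (e r') (z r') := congrArg (fun f : Perm α => f r') (hab z hz _ her.1)
          rw [h4, hzr1 r' hr'] at h2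
          exact h2
        exact her.2.1 (hodd _ her.1 _ h3)
      · rw [her.2.2 r' hr' hrr]
        exact hzm r' hr'
    have hxO : x ∈ Om := by
      by_contra hxO
      have h2 : (z * e r) x = x := by
        by_contra h3
        exact hxO (h1 ▸ Perm.mem_support.2 h3)
      have h3 : z x = x := by
        by_contra h3
        exact hxO ((hsup' z hz hzm) ▸ Perm.mem_support.2 h3)
      apply hx
      rw [Perm.mul_apply] at h2
      exact z.injective (h2.trans h3.symm)
    rw [hOm, mem_biUnion] at hxO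
    obtain ⟨r', hr', hxr⟩ := hxO
    by_cases hrr : r' = r
    · rw [← hrr]; exact hxr
    · exfalso
      obtain ⟨g, hg, rfl⟩ := mem_orb.1 hxr
      exact hx ((fix_iff hab her.1 hg r').2 (her.2.2 r' hr' hrr))
  -- the orbits of `e r`
  have heorb : ∀ r ∈ R, ∀ x ∈ orb Z r, ∃ i : ℤ, ((e r) ^ i) r = x := by
    intro r hr x hx
    have her := he r hr
    have hzp : IsPGroup p (Subgroup.zpowers (e r)) := hZp.to_le (by rw [Subgroup.zpowers_le]; exact her.1)
    obtain ⟨i, hi⟩ := card_orb hzp r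
    have hsub : orb (Subgroup.zpowers (e r)) r ⊆ orb Z r := by
      intro y hy
      obtain ⟨g, hg, rfl⟩ := mem_orb.1 hy
      exact mem_orb.2 ⟨g, (Subgroup.zpowers_le.2 her.1) hg, rfl⟩
    have h1 : 1 < #(orb (Subgroup.zpowers (e r)) r) := by
      rw [one_lt_card]
      exact ⟨r, mem_orb.2 ⟨1, Subgroup.one_mem _, rfl⟩, (e r) r, mem_orb.2 ⟨e r, Subgroup.mem_zpowers _, rfl⟩,
        her.2.1.symm⟩
    have h2 : orb (Subgroup.zpowers (e r)) r = orb Z r := by
      refine eq_of_subset_of_card_le hsub ?_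
      rw [hj r, hj1 r hr, pow_one, hi]
      rw [hi] at h1
      have : i ≠ 0 := by rintro rfl; simp at h1
      exact Nat.le_self_pow this p
    rw [← h2] at hx
    obtain ⟨g, hg, rfl⟩ := mem_orb.1 hx
    obtain ⟨i, rfl⟩ := Subgroup.mem_zpowers_iff.1 hg
    exact ⟨i, rfl⟩
  -- decomposition
  have hdec : ∀ d ∈ D, ∃ y ∈ Z, ∀ r ∈ R, d r = y r := by
    intro d hd
    have h1 : ∀ r, ∃ i : ℤ, r ∈ R → ((e r) ^ i) r = d r := by
      intro r
      by_cases hr : r ∈ R
      · have her := he r hr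
        have h2 : (e r) (d r) ≠ d r := by
          intro h3
          have h4 : d ((e r) r) = (e r) (d r) := congrArg (fun f : Perm α => f r) (((hmem _).1 her.1).2 d hd)
          rw [h3] at h4
          exact her.2.1 (d.injective h4)
        obtain ⟨i, hi⟩ := heorb r hr _ (hesup r hr _ h2)
        exact ⟨i, fun _ => hi⟩
      · exact ⟨0, fun h => absurd h hr⟩
    choose i hi using h1
    obtain ⟨y, hy, hyr⟩ := exists_prod hab he i
    exact ⟨y, hy, fun r hr => by rw [hyr r hr, hi r hr]⟩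
  -- the elements of `D` fixing the base
  let D' : Subgroup (Perm α) :=
    { carrier := {d | d ∈ D ∧ ∀ r ∈ R, d r = r}
      mul_mem' := fun {a b} ha hb => ⟨D.mul_mem ha.1 hb.1, fun r hr => by
        rw [Perm.mul_apply, hb.2 r hr, ha.2 r hr]⟩
      one_mem' := ⟨D.one_mem, fun r _ => rfl⟩
      inv_mem' := fun {a} ha => ⟨D.inv_mem ha.1, fun r hr => by
        rw [Perm.inv_eq_iff_eq]; exact (ha.2 r hr).symm⟩ }
  have hD'D : D' ≤ D := fun d hd => hd.1
  have hD'p : IsPGroup p D' := hD.to_le hD'D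
  have hD'1 : ∀ d ∈ D', d = 1 := by
    by_contra hne
    push Not at hne
    obtain ⟨d, hd, hd1⟩ := hne
    have hnt : Nontrivial D' := ⟨⟨⟨d, hd⟩, 1, fun h => hd1 (congrArg Subtype.val h)⟩⟩
    have := hD'p.center_nontrivial
    obtain ⟨⟨x, hxc⟩, hx1⟩ := exists_ne (1 : Subgroup.center D')
    have hx1' : (x : Perm α) ≠ 1 := fun h => hx1 (Subtype.ext (Subtype.ext h))
    apply hx1'
    refine hbase _ ((hmem _).2 ⟨hD'D x.2, fun g hg => ?_⟩) x.2.2
    obtain ⟨y, hy, hyr⟩ := hdec g hg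
    have hg' : y⁻¹ * g ∈ D' := ⟨D.mul_mem (D.inv_mem (hZD hy)) hg, fun r hr => by
      rw [Perm.mul_apply, hyr r hr]
      exact Equiv.symm_apply_apply _ _⟩
    have h1 : (y⁻¹ * g) * (x : Perm α) = x * (y⁻¹ * g) :=
      congrArg Subtype.val (Subgroup.mem_center_iff.1 hxc ⟨_, hg'⟩)
    have h2 : (x : Perm α) * y = y * x := ((hmem y).1 hy).2 x (hD'D x.2)
    calc g * (x : Perm α) = y * ((y⁻¹ * g) * x) := by group
      _ = y * (x * (y⁻¹ * g)) := by rw [h1]
      _ = (y * x) * (y⁻¹ * g) := by group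
      _ = (x * y) * (y⁻¹ * g) := by rw [h2]
      _ = x * g := by group
  have hDZ : D ≤ Z := by
    intro g hg
    obtain ⟨y, hy, hyr⟩ := hdec g hg
    have hg' : y⁻¹ * g ∈ D' := ⟨D.mul_mem (D.inv_mem (hZD hy)) hg, fun r hr => by
      rw [Perm.mul_apply, hyr r hr]
      exact Equiv.symm_apply_apply _ _⟩
    have h1 := hD'1 _ hg'
    rw [← inv_mul_eq_one.1 h1]
    exact hy
  exact ⟨⟨fun a b => Subtype.ext (hab a (hDZ a.2) b (hDZ b.2))⟩⟩

end Cfsg.Agent.H795.Spin
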